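import Groth.Agent.Lib.EqTub28.Stab
import Mathlib.RingTheory.Etale.Locus
import Mathlib.Algebra.Category.Ring.Constructions
import Mathlib.RingTheory.Localization.BaseChange

/-!
# The slice algebra of a closed orbit
-/

set_option autoImplicit false
set_option linter.style.haveILetI false
set_option backward.isDefEq.respectTransparency.types false
set_option maxSynthPendingDepth 3
set_option synthInstance.maxHeartbeats 400000

open TensorProduct KaehlerDifferential HopfRep WithConv Groth.Agent.Comodule CategoryTheory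

universe u

namespace Groth.Agent.Slice15

variable {k : Type u} [Field k] {A : Type u} [CommRing A] [HopfAlgebra k A]
  {R : Type u} [CommRing R] [Algebra k R] [Comod k A R] [GLin.IsCoactAlg k A R]
  {Q : Type u} [CommRing Q] [Algebra k Q] [Comod k A Q] [GLin.IsCoactAlg k A Q]

/-- An equivariant map restricted to the invariants. -/
noncomputable def res (θ : R →ₐ[k] Q) (hθ : Hoch.IsComodHom A θ.toLinearMap) :
    GLin.invariants k A R →ₐ[k] GLin.invariants k A Q :=
  (θ.comp (GLin.invariants k A R).val).codRestrict (GLin.invariants k A Q) fun r => by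
    show θ r.1 ∈ GLin.invariants k A Q
    rw [GLin.mem_invariants_iff, show Comod.coact (k := k) (A := A) (θ r.1) =
      θ.toLinearMap.rTensor A (Comod.coact (k := k) (A := A) r.1) from comodHom_apply hθ r.1,
      (GLin.mem_invariants_iff k A R r.1).1 r.2, LinearMap.rTensor_tmul]
    rfl

/-- The map of localisations at an invariant. -/
noncomputable def locVal (w : GLin.invariants k A Q) :
    Localization.Away w →ₐ[k] Localization.Away ((GLin.invariants k A Q).val w) :=
  IsLocalization.Away.mapₐ _ _ (GLin.invariants k A Q).val w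

/-- The map of localisations on a ring element. -/
theorem locVal_algebraMap (w r : GLin.invariants k A Q) :
    locVal w (algebraMap _ (Localization.Away w) r) =
      algebraMap Q (Localization.Away ((GLin.invariants k A Q).val w)) r := by
  show IsLocalization.Away.map (Localization.Away w) (Localization.Away ((GLin.invariants k A Q).val w))
    (GLin.invariants k A Q).val.toRingHom w (algebraMap _ _ r) = _
  unfold IsLocalization.Away.map
  rw [IsLocalization.map_eq]
  rfl

variable [IsAlgClosed k] [CharZero k] [IsDomain A] [Algebra.FiniteType k A] [Algebra.FiniteType k R] [IsReduced R]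

set_option maxHeartbeats 4000000 in
/-- The slice of a closed orbit, as an algebra with two maps from the ring. -/
theorem exists_slice (hG : IsLinearlyReductive k A) (x : R →ₐ[k] k) (hx : GLin.IsClosedOrbit k A x) :
    ∃ (Q : Type u) (_ : CommRing Q) (_ : Algebra k Q) (_ : IsReduced Q) (_ : Algebra.FiniteType k Q)
      (_ : Comod k A Q) (_ : GLin.IsCoactAlg k A Q) (πB : OrbitFlatH28.orb A x →ₐ[k] Q) (π θ : R →ₐ[k] Q) (p₀ : Q →ₐ[k] k)
      (g : GLin.invariants k A R) (w : GLin.invariants k A Q) (hθ : Hoch.IsComodHom A θ.toLinearMap),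
      Hoch.IsComodHom A π.toLinearMap ∧
      Function.Surjective (Algebra.TensorProduct.lift π θ fun _ _ => .all _ _) ∧
      πB.comp (GLin.orbitHom k A x).rangeRestrict = π ∧ p₀.comp π = x ∧ p₀.comp θ = x ∧ p₀ w ≠ 0 ∧
      (∀ P : Ideal Q, P.IsPrime → (w : Q) ∉ P → θ g ∉ P) ∧
      (∀ P : Ideal R, P.IsPrime → (g : R) ∉ P → ∃ P' : Ideal Q, P'.IsPrime ∧ (w : Q) ∉ P' ∧ P'.comap θ = P) ∧
      ((algebraMap (GLin.invariants k A Q) (Localization.Away w)).comp (res θ hθ).toRingHom).Etale ∧
      IsPushout (CommRingCat.ofHom (GLin.invariants k A R).val.toRingHom)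
        (CommRingCat.ofHom ((algebraMap (GLin.invariants k A Q) (Localization.Away w)).comp (res θ hθ).toRingHom))
        (CommRingCat.ofHom ((algebraMap Q (Localization.Away ((GLin.invariants k A Q).val w))).comp θ.toRingHom))
        (CommRingCat.ofHom (locVal w).toRingHom) := by
  -- the orbit
  let B := OrbitFlatH28.orb A x
  letI : Comod k A B := subComod (Subalgebra.toSubmodule B) (EqTub28.isSubcomod_orb x)
  haveI := EtQuotH28.regular_isCoactAlg (k := k) (A := A)
  haveI : GLin.IsCoactAlg k A B := EqZMT28.subalgebra_isCoactAlg B (EqTub28.isSubcomod_orb x)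
  let ρ : R →ₐ[k] B := (GLin.orbitHom k A x).rangeRestrict
  have hρs : Function.Surjective ρ := AlgHom.rangeRestrict_surjective _
  have hρ : Hoch.IsComodHom A ρ.toLinearMap := by
    refine LinearMap.ext fun r => rTensor_subtype_injective (Subalgebra.toSubmodule B) ?_
    simp only [LinearMap.comp_apply]
    refine (rTensor_coactRestrict (Subalgebra.toSubmodule B) (EqTub28.isSubcomod_orb x) (ρ r)).trans ?_
    erw [← LinearMap.rTensor_comp_apply]
    exact comodHom_apply (isComodHom_orbitHom x) r
  haveI := EqTub28.smooth_orb hx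
  haveI : Algebra.FiniteType k B := Algebra.FiniteType.of_surjective ρ hρs
  let xB : B →ₐ[k] k := (Bialgebra.counitAlgHom k A).comp B.val
  have hxB : xB.comp ρ = x := AlgHom.ext fun r => counit_orbitHom x r
  -- the tube
  obtain ⟨s, hs, hst⟩ := EqTub28.exists_section (A := A) ρ hG hρ hρs
  letI : Comod k A (B ⊗[k] R) := EqTub28.diagComod B R
  haveI := EqTub28.diag_isCoactAlg (k := k) (A := A) (B := B) (R := R)
  set I := (EqTub28.tubeIdeal ρ s).radical with hI
  have hIst := EqTub28.isSubcomod_radical hst
  let Q := (B ⊗[k] R) ⧸ I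
  letI : Comod k A Q := EqTub28.idealQuotComod I hIst
  haveI : GLin.IsCoactAlg k A Q := EqTub28.idealQuot_isCoactAlg I hIst
  letI : Algebra R Q :=
    ((Ideal.Quotient.mk I).comp (Algebra.TensorProduct.includeRight : R →ₐ[k] B ⊗[k] R).toRingHom).toAlgebra
  haveI : IsScalarTower k R Q := IsScalarTower.of_algebraMap_eq fun c =>
    (congrArg (Ideal.Quotient.mk I) ((Algebra.TensorProduct.includeRight : R →ₐ[k] B ⊗[k] R).commutes c)).symm
  haveI : IsReduced Q := (Ideal.isRadical_iff_quotient_reduced I).1 (Ideal.radical_isRadical _)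
  haveI : Algebra.FiniteType k (B ⊗[k] R) := by
    haveI : Algebra.FiniteType B (B ⊗[k] R) := inferInstance
    exact Algebra.FiniteType.trans (S := B) inferInstance inferInstance
  haveI : Algebra.FiniteType k Q :=
    Algebra.FiniteType.of_surjective (Ideal.Quotient.mkₐ k I) Ideal.Quotient.mk_surjective
  let π : R →ₐ[k] Q := (Ideal.Quotient.mkₐ k I).comp ((EtQuotH28.incL k B R).comp ρ)
  let θ : R →ₐ[k] Q := IsScalarTower.toAlgHom k R Q
  have hπ : Hoch.IsComodHom A π.toLinearMap := LinearMap.ext fun r => by
    have h2 : Hoch.IsComodHom A (EtQuotH28.incL k B R (k := k)).toLinearMap := EtQuotH28.isComodHom_incL _ _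
    simp only [π, AlgHom.comp_toLinearMap, LinearMap.comp_apply, LinearMap.rTensor_comp]
    rw [comodHom_apply (EqTub28.isComodHom_mk I hIst), comodHom_apply h2, comodHom_apply hρ]
  have hθ : Hoch.IsComodHom A θ.toLinearMap := LinearMap.ext fun r => by
    have h2 : Hoch.IsComodHom A (EtQuotH28.incR k B R (k := k)).toLinearMap := EtQuotH28.isComodHom_incR _ _
    have e : θ.toLinearMap =
        (Ideal.Quotient.mkₐ k I).toLinearMap ∘ₗ (EtQuotH28.incR k B R (k := k)).toLinearMap := rfl
    simp only [e, LinearMap.comp_apply, LinearMap.rTensor_comp]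
    rw [comodHom_apply (EqTub28.isComodHom_mk I hIst), comodHom_apply h2]
  have hequiv : ∀ r : R, Comod.coact (k := k) (A := A) (algebraMap R Q r) =
      Algebra.TensorProduct.map (IsScalarTower.toAlgHom k R Q) (AlgHom.id k A) (Comod.coact (k := k) (A := A) r) :=
    fun r => comodHom_apply hθ r
  -- the point
  haveI hpr : (RingHom.ker (EqTub28.graphPt ρ xB)).IsPrime := RingHom.ker_isPrime _
  have hIp : I ≤ RingHom.ker (EqTub28.graphPt ρ xB) := hpr.radical_le_iff.2 (EqTub28.tubeIdeal_le ρ xB s)
  let p₀ : Q →ₐ[k] k := Ideal.Quotient.liftₐ I (EqTub28.graphPt ρ xB) fun a ha => hIp ha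
  have hp₀θ : p₀.comp θ = x := AlgHom.ext fun r => by
    show EqTub28.graphPt ρ xB ((1 : B) ⊗ₜ[k] r) = x r
    rw [EqTub28.graphPt_tmul, map_one, one_mul]
    exact AlgHom.congr_fun hxB r
  have hp₀π : p₀.comp π = x := AlgHom.ext fun r => by
    show EqTub28.graphPt ρ xB (ρ r ⊗ₜ[k] (1 : R)) = x r
    rw [EqTub28.graphPt_tmul, map_one, map_one, mul_one]
    exact AlgHom.congr_fun hxB r
  have hker : RingHom.ker p₀ = (RingHom.ker (EqTub28.graphPt ρ xB)).map (Ideal.Quotient.mk I) := by
    ext z
    obtain ⟨z, rfl⟩ := Ideal.Quotient.mk_surjective z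
    rw [← Ideal.mem_comap (f := Ideal.Quotient.mk I) (K := Ideal.map _ _),
      Ideal.comap_map_of_surjective' _ Ideal.Quotient.mk_surjective, Ideal.mk_ker, sup_eq_left.2 hIp]
    exact Iff.rfl
  haveI : (RingHom.ker p₀).IsPrime := RingHom.ker_isPrime _
  have het : Algebra.IsEtaleAt R (RingHom.ker p₀) := EqTub28.isEtaleAt_radical ρ xB s hs (RingHom.ker p₀) hker
  have hinj : ∀ g : A →ₐ[k] k, GLin.actPt k g (p₀.comp θ) = p₀.comp θ → GLin.actPt k g p₀ = p₀ := by
    intro g hg
    rw [hp₀θ] at hg
    have h1 : (GLin.actPt k g p₀).comp θ = x := by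
      show (OrbitH28.mv (toConv g) p₀).comp _ = x
      rw [EqTub28.mv_comp' hθ, hp₀θ]
      exact hg
    have h2 : (GLin.actPt k g p₀).comp π = x := by
      show (OrbitH28.mv (toConv g) p₀).comp _ = x
      rw [EqTub28.mv_comp' hπ, hp₀π]
      exact hg
    have e : (GLin.actPt k g p₀).comp (Ideal.Quotient.mkₐ k I) = p₀.comp (Ideal.Quotient.mkₐ k I) := by
      refine Algebra.TensorProduct.ext (AlgHom.ext fun b => ?_) (AlgHom.ext fun r => ?_)
      · obtain ⟨r, rfl⟩ := hρs b
        exact (AlgHom.congr_fun h2 r).trans (AlgHom.congr_fun hp₀π r).symm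
      · exact (AlgHom.congr_fun h1 r).trans (AlgHom.congr_fun hp₀θ r).symm
    refine AlgHom.ext fun z => ?_
    obtain ⟨z, rfl⟩ := Ideal.Quotient.mk_surjective z
    exact AlgHom.congr_fun e z
  have hlift : Function.Surjective (Algebra.TensorProduct.lift π θ fun _ _ => .all _ _) := by
    intro q
    obtain ⟨z, rfl⟩ := Ideal.Quotient.mk_surjective q
    induction z with
    | zero => exact ⟨0, by simp⟩
    | add a b ha hb =>
      obtain ⟨a', ha'⟩ := ha
      obtain ⟨b', hb'⟩ := hb
      exact ⟨a' + b', by rw [map_add, ha', hb', map_add]⟩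
    | tmul b r =>
      obtain ⟨r', rfl⟩ := hρs b
      refine ⟨r' ⊗ₜ[k] r, ?_⟩
      rw [Algebra.TensorProduct.lift_tmul]
      show Ideal.Quotient.mk I (ρ r' ⊗ₜ[k] (1 : R)) * Ideal.Quotient.mk I ((1 : B) ⊗ₜ[k] r) = _
      rw [← map_mul, Algebra.TensorProduct.tmul_mul_tmul, mul_one, one_mul]
  -- the strongly étale neighbourhood
  letI : Algebra (GLin.invariants k A R) (GLin.invariants k A Q) := (res θ hθ).toRingHom.toAlgebra
  haveI : IsScalarTower (GLin.invariants k A R) (GLin.invariants k A Q) Q :=
    IsScalarTower.of_algebraMap_eq fun r => rfl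
  obtain ⟨f, g, hfg, hsurj, -, -, het0, hk, hc⟩ := EtQuotH28.exists_strongly_etale (S := R) (R := Q)
    (S₀ := GLin.invariants k A R) (R₀ := GLin.invariants k A Q) hG hequiv
    Subtype.val_injective (by ext r; simp) Subtype.val_injective (by ext r; simp) p₀ het (hp₀θ.symm ▸ hx) hinj
  set w : GLin.invariants k A Q := f * algebraMap (GLin.invariants k A R) (GLin.invariants k A Q) g with hw
  refine ⟨Q, inferInstance, inferInstance, inferInstance, inferInstance, inferInstance, inferInstance,
    (Ideal.Quotient.mkₐ k I).comp (EtQuotH28.incL k B R), π, θ, p₀, g,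
    w, hθ, hπ, hlift, rfl, hp₀π, hp₀θ, hfg, fun P hP hwP hgP => hwP ?_, fun P hP hgP => hsurj P hP hgP,
    ?_, ?_⟩
  · show (f : Q) * θ g.1 ∈ P
    exact P.mul_mem_left _ hgP
  · show ((algebraMap (GLin.invariants k A Q) (Localization.Away w)).comp
      (algebraMap (GLin.invariants k A R) (GLin.invariants k A Q))).Etale
    rw [← IsScalarTower.algebraMap_eq, RingHom.etale_algebraMap]
    haveI : IsScalarTower k (GLin.invariants k A R) (GLin.invariants k A Q) :=
      IsScalarTower.of_algebraMap_eq fun c => ((res θ hθ).commutes c).symm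
    haveI : Algebra.FiniteType k (GLin.invariants k A Q) :=
      EtQuotH28.finiteType_invariants (R := Q) hG Subtype.val_injective (by ext r; simp)
    haveI : Algebra.FiniteType k (GLin.invariants k A R) :=
      EtQuotH28.finiteType_invariants (R := R) hG Subtype.val_injective (by ext r; simp)
    haveI : IsNoetherianRing (GLin.invariants k A R) := Algebra.FiniteType.isNoetherianRing k _
    haveI : Algebra.FiniteType (GLin.invariants k A R) (GLin.invariants k A Q) :=
      Algebra.FiniteType.of_restrictScalars_finiteType k _ _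
    haveI : Algebra.FinitePresentation (GLin.invariants k A R) (GLin.invariants k A Q) :=
      Algebra.FinitePresentation.of_finiteType.1 inferInstance
    refine Algebra.basicOpen_subset_etaleLocus_iff_etale.1 fun q hq => ?_
    exact het0 q.asIdeal hq
  · letI : Algebra (GLin.invariants k A Q) (R ⊗[GLin.invariants k A R] (GLin.invariants k A Q)) :=
      Algebra.TensorProduct.includeRight.toRingHom.toAlgebra
    set T := R ⊗[GLin.invariants k A R] (GLin.invariants k A Q) with hT
    let Qw := Localization.Away ((GLin.invariants k A Q).val w)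
    let Rw := Localization.Away w
    let μ : T →+* Q := (EtQuotH28.cmp R Q (GLin.invariants k A R) (GLin.invariants k A Q)).toRingHom
    have hμ : μ ((1 : R) ⊗ₜ[GLin.invariants k A R] w) = (GLin.invariants k A Q).val w := by
      show EtQuotH28.cmp R Q _ _ _ = _
      rw [EtQuotH28.cmp_tmul, map_one, one_mul]
      rfl
    have hl := EtQuotH28.isLocalization_away (R := Q)
      μ ((1 : R) ⊗ₜ[GLin.invariants k A R] w) hk fun r => by
        obtain ⟨n, z, hz⟩ := hc r
        exact ⟨n, z, by rw [hμ]; exact hz⟩
    rw [hμ] at hl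
    letI : Algebra T Qw := ((algebraMap Q Qw).comp μ).toAlgebra
    letI : Algebra Rw Qw := (locVal w).toRingHom.toAlgebra
    haveI : IsScalarTower (GLin.invariants k A Q) T Qw := IsScalarTower.of_algebraMap_eq fun r => by
      show algebraMap (GLin.invariants k A Q) Qw r =
        algebraMap Q Qw (EtQuotH28.cmp R Q _ _ ((1 : R) ⊗ₜ[GLin.invariants k A R] r))
      rw [EtQuotH28.cmp_tmul, map_one, one_mul, ← IsScalarTower.algebraMap_apply]
    haveI : IsScalarTower (GLin.invariants k A Q) Rw Qw := IsScalarTower.of_algebraMap_eq fun r => by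
      show algebraMap (GLin.invariants k A Q) Qw r = locVal w (algebraMap _ Rw r)
      rw [IsScalarTower.algebraMap_apply (GLin.invariants k A Q) Q Qw]
      exact (locVal_algebraMap w r).symm
    haveI : IsLocalization (Algebra.algebraMapSubmonoid T (Submonoid.powers w)) Qw := by
      rw [Algebra.algebraMapSubmonoid_powers]
      exact hl
    haveI : Algebra.IsPushout (GLin.invariants k A Q) T Rw Qw :=
      Algebra.isPushout_of_isLocalization (Submonoid.powers w) _ _ _
    have hA := (CommRingCat.isPushout_tensorProduct (GLin.invariants k A R) R (GLin.invariants k A Q)).flip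
    have hB := (CommRingCat.isPushout_of_isPushout (GLin.invariants k A Q) T Rw Qw).flip
    refine ((hA.paste_horiz hB).flip).of_iso (Iso.refl _) (Iso.refl _) (Iso.refl _) (Iso.refl _)
      (by ext r; rfl) (by ext r; rfl) ?_ (by ext r; rfl)
    ext r
    show algebraMap Q Qw (EtQuotH28.cmp R Q (GLin.invariants k A R) (GLin.invariants k A Q)
      (r ⊗ₜ[GLin.invariants k A R] (1 : GLin.invariants k A Q))) = algebraMap Q Qw (θ r)
    rw [EtQuotH28.cmp_tmul, map_one, mul_one]
    rfl

end Groth.Agent.Slice15
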