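import Groth.Agent.Lib.ChBal21.CatQuot
import Groth.Agent.Lib.ChBal21.Closed

/-!
# Schemes over an orbit are balanced products
-/

set_option autoImplicit false
set_option linter.style.haveILetI false
set_option backward.isDefEq.respectTransparency.types false
universe u

open CategoryTheory CategoryTheory.Limits MonoidalCategory CartesianMonoidalCategory MonObj GrpObj AlgebraicGeometry
open Groth.Agent.ChBal21 (isPullback_of_points subAction)

namespace Groth.Agent.Slice15

variable {S : Scheme.{u}} {G H X W V O : Over S} [GrpObj G] [GrpObj H]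

/-- A scheme mapping equivariantly onto an orbit is the balanced product of the group and a fibre. -/
theorem balProd_of_orbit (a : AlgGrp.Action G X) (aW : AlgGrp.Action G W) (c : W ⟶ X)
    (hc : AlgGrp.Action.IsEquivariant aW a c) (x : 𝟙_ (Over S) ⟶ X) (i : H ⟶ G) [IsMonHom i]
    (hH : IsPullback i (toUnit H) (a.orbitMap x) x) (vW : V ⟶ W) (sqV : IsPullback vW (toUnit V) c x)
    (iO : O ⟶ X) [Mono iO] (oG : G ⟶ O) [Flat oG.left] [Surjective oG.left] [LocallyOfFinitePresentation oG.left]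
    (hoG : oG ≫ iO = a.orbitMap x) (c' : W ⟶ O) (hc' : c' ≫ iO = c) :
    ∃ aV : AlgGrp.Action H V, aV.act ≫ vW = (H ◁ vW) ≫ (aW.restrict i).act ∧
      GIT.IsCatQuot (ChGrp.twist i aV) ((G ◁ vW) ≫ aW.act) ∧
      ChGrp.IsBalProd Scheme.fppfPrecoverage i aV aW ((G ◁ vW) ≫ aW.act) := by
  haveI hxm : Mono x := ⟨fun _ _ _ => toUnit_unique _ _⟩
  haveI : Mono vW := ⟨fun l l' h => sqV.hom_ext h (toUnit_unique _ _)⟩
  haveI : Mono i := ⟨fun l l' h => hH.hom_ext h (toUnit_unique _ _)⟩
  have hcact : ∀ {T : Over S} (g : T ⟶ G) (y : T ⟶ W), (lift g y ≫ aW.act) ≫ c = lift g (y ≫ c) ≫ a.act :=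
    fun g y => by rw [Category.assoc, show aW.act ≫ c = (G ◁ c) ≫ a.act from hc, lift_whiskerLeft_assoc]
  have hvc : ∀ {T : Over S} (v : T ⟶ V), (v ≫ vW) ≫ c = toUnit T ≫ x := fun v => by
    rw [Category.assoc, sqV.w, ← Category.assoc, toUnit_unique (v ≫ toUnit V) (toUnit _)]
  have hVlift : ∀ {T : Over S} (y : T ⟶ W), y ≫ c = toUnit T ≫ x → ∃ v : T ⟶ V, v ≫ vW = y :=
    fun y hy => ⟨sqV.lift y (toUnit _) hy, sqV.lift_fst _ _ _⟩
  have hstab : ∀ {T : Over S} (g : T ⟶ G), lift g (toUnit T ≫ x) ≫ a.act = toUnit T ≫ x →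
      ∃ h : T ⟶ H, h ≫ i = g := fun g hg =>
    ⟨hH.lift g (toUnit _) (by rw [AlgGrp.Action.comp_orbitMap, hg]), hH.lift_fst _ _ _⟩
  have hfix : ∀ {T : Over S} (h : T ⟶ H), lift (h ≫ i) (toUnit T ≫ x) ≫ a.act = toUnit T ≫ x := fun {T} h => by
    rw [← AlgGrp.Action.comp_orbitMap, Category.assoc, hH.w, ← Category.assoc,
      toUnit_unique (h ≫ toUnit H) (toUnit T)]
  obtain ⟨act', hact⟩ : ∃ act' : H ⊗ V ⟶ V, act' ≫ vW = (H ◁ vW) ≫ (aW.restrict i).act := by
    refine hVlift _ ?_
    have e : (H ◁ vW) ≫ (aW.restrict i).act = lift (fst H V ≫ i) (snd H V ≫ vW) ≫ aW.act := by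
      rw [← AlgGrp.Action.lift_restrict_act]
      congr 1
    rw [e, hcact, hvc, hfix]
  let aV := subAction (aW.restrict i) vW act' hact
  have hV : ∀ {T : Over S} (h : T ⟶ H) (v : T ⟶ V),
      (lift h v ≫ aV.act) ≫ vW = lift (h ≫ i) (v ≫ vW) ≫ aW.act := fun h v => by
    show (lift h v ≫ act') ≫ vW = _
    rw [Category.assoc, hact, lift_whiskerLeft_assoc, AlgGrp.Action.lift_restrict_act]
  set j := (G ◁ vW) ≫ aW.act with hj
  have hjp : ∀ {T : Over S} (g : T ⟶ G) (v : T ⟶ V), lift g v ≫ j = lift g (v ≫ vW) ≫ aW.act := fun g v => by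
    rw [hj, lift_whiskerLeft_assoc]
  have hjc : ∀ {T : Over S} (g : T ⟶ G) (v : T ⟶ V), (lift g v ≫ j) ≫ c' = g ≫ oG := fun g v => by
    rw [← cancel_mono iO, Category.assoc, hc', Category.assoc g, hoG, hjp, hcact, hvc, AlgGrp.Action.comp_orbitMap]
  have hpair : ∀ {T P Q : Over S} (p : T ⟶ P ⊗ Q), p = lift (p ≫ fst P Q) (p ≫ snd P Q) := fun p => by
    rw [← comp_lift, lift_fst_snd, Category.comp_id]
  have sqO : IsPullback j (fst G V) c' oG := by
    refine isPullback_of_points ?_ fun T y g e => ?_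
    · have := hjc (fst G V) (snd G V)
      rwa [lift_fst_snd, Category.id_comp] at this
    · have e' : y ≫ c = lift g (toUnit T ≫ x) ≫ a.act := by
        rw [← hc', ← Category.assoc, e, Category.assoc, hoG, AlgGrp.Action.comp_orbitMap]
      obtain ⟨v, hv⟩ := hVlift (lift g⁻¹ y ≫ aW.act) (by
        rw [hcact, e', ← AlgGrp.Action.lift_mul_act, inv_mul_cancel, AlgGrp.Action.lift_one_act])
      refine ⟨lift g v, ⟨?_, lift_fst _ _⟩, ?_⟩
      · rw [hjp, hv, ← AlgGrp.Action.lift_mul_act, mul_inv_cancel, AlgGrp.Action.lift_one_act]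
      · rintro l ⟨hl1, hl2⟩
        have hl := hpair l
        generalize l ≫ snd G V = v' at hl
        rw [hl2] at hl
        subst hl
        rw [hjp] at hl1
        congr 1
        rw [← cancel_mono vW, hv, ← hl1, ← AlgGrp.Action.lift_mul_act, inv_mul_cancel,
          AlgGrp.Action.lift_one_act]
  have sqO' : IsPullback j.left (fst G V).left c'.left oG.left := sqO.map (Over.forget S)
  haveI : Flat j.left := MorphismProperty.of_isPullback (P := @Flat) sqO'.flip inferInstance
  haveI : Surjective j.left := MorphismProperty.of_isPullback (P := @Surjective) sqO'.flip inferInstance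
  haveI : LocallyOfFinitePresentation j.left :=
    MorphismProperty.of_isPullback (P := @LocallyOfFinitePresentation) sqO'.flip inferInstance
  have hloc : NonAbH1.IsLocallyTrivialFor Scheme.fppfPrecoverage (Over.mk j.left : Over W.left) := by
    refine ⟨Presieve.singleton j.left, j.left.singleton_mem_fppfPrecoverage, ?_⟩
    rintro U f ⟨⟩
    exact ⟨𝟙 _, Category.id_comp _⟩
  have heq : IsPullback (ChGrp.twist i aV).act (snd H (G ⊗ V)) j j := by
    refine isPullback_of_points ?_ fun T p q e => ?_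
    · apply AlgGrp.Action.hom_ext_lift₂
      intro T h p
      rw [hpair p]
      rw [← Category.assoc, ChGrp.lift_twist_act, lift_snd_assoc, hjp, hjp, hV, ← AlgGrp.Action.lift_mul_act,
        inv_mul_cancel_right]
    · rw [hpair p, hpair q] at e
      have e1 := congrArg (· ≫ c') e
      simp only [hjc] at e1
      rw [hpair p, hpair q]
      generalize p ≫ fst G V = g at e e1 ⊢
      generalize p ≫ snd G V = v at e ⊢
      generalize q ≫ fst G V = g' at e e1 ⊢
      generalize q ≫ snd G V = v' at e ⊢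
      have e2 := congrArg (· ≫ iO) e1
      simp only [Category.assoc, hoG, AlgGrp.Action.comp_orbitMap] at e2
      obtain ⟨h, hh⟩ := hstab (g⁻¹ * g') (by
        rw [AlgGrp.Action.lift_mul_act, ← e2, ← AlgGrp.Action.lift_mul_act, inv_mul_cancel,
          AlgGrp.Action.lift_one_act])
      refine ⟨lift h (lift g' v'), ⟨?_, lift_snd _ _⟩, ?_⟩
      · have e3 : g' * (h ≫ i)⁻¹ = g := by rw [hh, _root_.mul_inv_rev, _root_.inv_inv, mul_inv_cancel_left]
        rw [ChGrp.lift_twist_act, e3]
        congr 1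
        rw [hjp, hjp] at e
        rw [← cancel_mono vW, hV, hh, AlgGrp.Action.lift_mul_act, ← e, ← AlgGrp.Action.lift_mul_act,
          inv_mul_cancel, AlgGrp.Action.lift_one_act]
      · rintro l ⟨hl1, hl2⟩
        have hl := hpair l
        rw [hl2] at hl
        generalize l ≫ fst H (G ⊗ V) = h' at hl
        subst hl
        rw [ChGrp.lift_twist_act] at hl1
        have a1 := congrArg (· ≫ fst G V) hl1
        simp only [lift_fst] at a1
        congr 1
        rw [← cancel_mono i, hh, ← a1, _root_.mul_inv_rev, _root_.inv_inv, inv_mul_cancel_right]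
  refine ⟨aV, hact, ⟨heq.w, fun Z f hf => ?_⟩, ?_, heq, hloc⟩
  · obtain ⟨g, hg⟩ := ChBal21.exists_desc j hloc f fun T p q e => by
      have hf' : (ChGrp.twist i aV).act ≫ f = snd H (G ⊗ V) ≫ f := hf
      rw [← heq.lift_fst p q e, Category.assoc, hf', ← Category.assoc, heq.lift_snd]
    refine ⟨g, hg, fun g' hg' => ?_⟩
    obtain ⟨R, hR, hl⟩ := ChBal21.exists_cover_lift j hloc (𝟙 W)
    refine ChBal21.hom_ext_over hR fun U u hu => ?_
    obtain ⟨p, hp⟩ := hl u hu
    rw [Category.comp_id] at hp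
    rw [← hp, Category.assoc p j g', hg', Category.assoc p j g, hg]
  · show ((NonAbH1.trivialAction G).prod (AlgGrp.Action.trivial G V)).act ≫ j = (G ◁ j) ≫ aW.act
    apply AlgGrp.Action.hom_ext_lift₂
    intro T g p
    rw [hpair p, ← Category.assoc, AlgGrp.Action.lift_prod_act, AlgGrp.Action.lift_trivial_act, hjp,
      lift_whiskerLeft_assoc, hjp, ← AlgGrp.Action.lift_mul_act]
    congr 3

end Groth.Agent.Slice15
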