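import Groth.Agent.Lib.AffAct15.Spec
import Groth.Agent.Lib.AffAct15.Orbit
import Groth.Agent.Lib.GITQuot.Descend
import Groth.Prelude.Def_W4c6nonredquotmfGoodQuot
import Groth.Prelude.Def_ChGrp

/-!
# Equivariant maps of affine schemes with actions
-/

set_option autoImplicit false
set_option linter.style.haveILetI false
set_option backward.isDefEq.respectTransparency.types false
universe u

open CategoryTheory Limits MonoidalCategory CartesianMonoidalCategory MonObj AlgebraicGeometry
open scoped TensorProduct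
open CoactBr (sp pt)
open Groth.Agent.AffAct15 (pair IsModel exists_pt exists_affModel)

noncomputable section

namespace Groth.Agent.Slice15

variable {k : Type u} [Field k]

/-- Morphisms from an affine scheme are determined on algebra-valued points. -/
theorem hom_ext_pt {P Z : Over (Spec (CommRingCat.of k))} [IsAffine P.left] {f g : P ⟶ Z}
    (h : ∀ (K : Type u) [CommRing K] [Algebra k K] (q : sp k K ⟶ P), q ≫ f = q ≫ g) : f = g := by
  obtain ⟨K, _, _, jK, _⟩ := exists_affModel P
  exact (cancel_epi jK).1 (h K jK)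

/-- The point of the base as a spectrum. -/
theorem isIso_toUnit : IsIso (toUnit (sp k k)) := by
  haveI : IsIso ((Over.forget _).map (toUnit (sp k k))) := by
    show IsIso (toUnit (sp k k)).left
    rw [Over.toUnit_left]
    show IsIso (Spec.map (CommRingCat.ofHom (algebraMap k k)))
    rw [Algebra.algebraMap_self, CommRingCat.ofHom_id, Spec.map_id]
    infer_instance
  exact isIso_of_reflects_iso _ (Over.forget _)

variable {G X : Over (Spec (CommRingCat.of k))} [GrpObj G] [IsAffine G.left]
  {A R : Type u} [CommRing A] [HopfAlgebra k A] [CommRing R] [Algebra k R] [HopfRep.Comod k A R]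
  [GLin.IsCoactAlg k A R] {eG : sp k A ⟶ G} [IsMonHom eG] [IsIso eG]

omit [IsAffine G.left] in
variable (eG R) in
/-- A coaction gives an action of a group with the same coordinates. -/
theorem exists_action : ∃ a' : AlgGrp.Action G (sp k R), IsModel eG (𝟙 _) a' (GLin.coactAlgHom k A R) := by
  haveI : IsMonHom (inv eG) := by
    refine ⟨?_, ?_⟩
    · rw [← cancel_mono eG, Category.assoc, IsIso.inv_hom_id, Category.comp_id, IsMonHom.one_hom]
    · rw [← cancel_mono eG, Category.assoc, IsIso.inv_hom_id, Category.comp_id, Category.assoc, IsMonHom.mul_hom,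
        MonoidalCategory.tensorHom_comp_tensorHom_assoc, IsIso.inv_hom_id, MonoidalCategory.id_tensorHom_id,
        Category.id_comp]
  refine ⟨(CoactBr.action k A R).restrict (inv eG), ?_⟩
  intro K _ _ x g
  rw [AlgGrp.Action.lift_restrict_act, Category.comp_id, Category.comp_id,
    show (pt g ≫ eG)⁻¹ ≫ inv eG = (pt g)⁻¹ by
      rw [GrpObj.inv_comp, Category.assoc, IsIso.hom_inv_id, Category.comp_id],
    CoactBr.lift_action_act, _root_.inv_inv, CoactBr.lift_pt_ract]

variable {j : sp k R ⟶ X} [IsIso j] {a : AlgGrp.Action G X}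

omit [IsMonHom eG] in
/-- Comodule maps give equivariant maps. -/
theorem equivariant_pt (hj : IsModel eG j a (GLin.coactAlgHom k A R)) {R' : Type u} [CommRing R'] [Algebra k R']
    [HopfRep.Comod k A R'] [GLin.IsCoactAlg k A R'] {a' : AlgGrp.Action G (sp k R')}
    (hj' : IsModel eG (𝟙 _) a' (GLin.coactAlgHom k A R')) (φ : R →ₐ[k] R')
    (hφ : Hoch.IsComodHom A φ.toLinearMap) : a'.act ≫ pt φ ≫ j = (G ◁ (pt φ ≫ j)) ≫ a.act := by
  haveI : IsAffine (sp k R').left := inferInstanceAs (IsAffine (Spec _))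
  haveI : IsAffine (G ⊗ sp k R').left := inferInstanceAs (IsAffine (pullback G.hom (sp k R').hom))
  refine hom_ext_pt fun K _ _ q => ?_
  obtain ⟨g, hg⟩ := exists_pt ((q ≫ fst G (sp k R'))⁻¹ ≫ inv eG)
  obtain ⟨x, hx⟩ := exists_pt (q ≫ snd G (sp k R'))
  have hq : q = lift (pt g ≫ eG)⁻¹ (pt x) := by
    rw [hg, hx, Category.assoc, IsIso.inv_hom_id, Category.comp_id, _root_.inv_inv, ← comp_lift, lift_fst_snd,
      Category.comp_id]
  have h1 := hj' K x g
  rw [Category.comp_id, Category.comp_id] at h1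
  rw [hq, lift_whiskerLeft_assoc, ← Category.assoc (pt x), ← CoactBr.pt_comp, hj K (x.comp φ) g,
    reassoc_of% h1, ← Category.assoc (pt _) (pt φ) j, ← CoactBr.pt_comp]
  congr 2
  refine AlgHom.ext fun r => ?_
  simp only [AlgHom.comp_apply, GLin.coactAlgHom_apply]
  rw [show HopfRep.Comod.coact (k := k) (A := A) (φ r) =
    φ.toLinearMap.rTensor A (HopfRep.Comod.coact (k := k) (A := A) r) from Comodule.comodHom_apply hφ r]
  generalize HopfRep.Comod.coact (k := k) (A := A) r = z
  induction z with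
  | zero => simp
  | add s t hs ht => simp only [map_add, hs, ht]
  | tmul s t => simp

/-- The orbit map in coordinates. -/
theorem orbitMap_eq (hj : IsModel eG j a (GLin.coactAlgHom k A R)) (x : 𝟙_ (Over (Spec (CommRingCat.of k))) ⟶ X)
    (x₀ : R →ₐ[k] k) (hx₀ : pt x₀ ≫ j = toUnit (sp k k) ≫ x) :
    a.orbitMap x = GrpObj.inv ≫ inv eG ≫ pt (GLin.orbitHom k A x₀) ≫ j := by
  refine hom_ext_pt fun K _ _ q => ?_
  obtain ⟨g, hg⟩ := exists_pt (q⁻¹ ≫ inv eG)
  have hge : (pt g ≫ eG)⁻¹ = q := by
    rw [hg, Category.assoc, IsIso.inv_hom_id, Category.comp_id, _root_.inv_inv]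
  have e1 : q ≫ GrpObj.inv ≫ inv eG = pt g := by rw [hg, Hom.inv_def, Category.assoc]
  have e2 : toUnit (sp k K) ≫ x = pt ((Algebra.ofId k K).comp x₀) ≫ j := by
    rw [CoactBr.pt_comp, Category.assoc, hx₀, ← Category.assoc, toUnit_unique (_ ≫ toUnit (sp k k)) (toUnit _)]
  rw [AlgGrp.Action.comp_orbitMap, reassoc_of% e1, ← Category.assoc (pt g), ← CoactBr.pt_comp, e2, ← hge, hj]
  congr 2
  refine AlgHom.ext fun r => ?_
  simp only [AlgHom.comp_apply, GLin.coactAlgHom_apply, GLin.orbitHom]
  generalize HopfRep.Comod.coact (k := k) (A := A) r = z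
  induction z with
  | zero => simp
  | add s t hs ht => simp only [map_add, hs, ht]
  | tmul s t => simp [Algebra.smul_def]

variable {Y : Over (Spec (CommRingCat.of k))} {φ : X ⟶ Y}

include eG in
/-- An affine quotient is a good quotient. -/
theorem isGoodQuot_of_isAffQuot (hG : HopfRep.IsLinearlyReductive k A) (h : AffAct15.IsAffQuot a φ) :
    NRQuot.IsGoodQuot a φ := by
  haveI := h.affX
  haveI := h.affY
  have hi : ∀ W : Set X.left, NRQuot.IsInvariantSet a W →
      a.act.left.base '' ((snd G X).left.base ⁻¹' W) ⊆ W := by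
    rintro W hW _ ⟨p, hp, rfl⟩
    exact hW p hp
  refine ⟨inferInstance, h.invt, (h.isLocAffQuot eG hG).sections eG hG, fun W hW hWi => ?_, fun J W hW hWi => ?_⟩
  · refine closure_subset_iff_isClosed.1 fun y hy => ?_
    obtain ⟨x, hx, hxW⟩ := h.exists_common eG hG (fun _ : PUnit.{u + 1} => W) (fun _ => hW) (fun _ => hi W hWi) y
      fun _ => hy
    exact ⟨x, hxW ⟨⟩, hx⟩
  · refine Set.Subset.antisymm (Set.image_iInter_subset _ _) fun y hy => ?_
    obtain ⟨x, hx, hxW⟩ := h.exists_common eG hG W hW (fun i => hi _ (hWi i)) y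
      fun i => subset_closure (Set.mem_iInter.1 hy i)
    exact ⟨x, Set.mem_iInter.2 hxW, hx⟩

omit [IsAffine G.left] in
/-- A good quotient is a categorical quotient. -/
theorem isCatQuot_of_isGoodQuot (h : NRQuot.IsGoodQuot a φ) : GIT.IsCatQuot a φ :=
  (Groth.Agent.S11445.result _ G X Y a φ h.inv h.sections
    (fun W hW hWi => h.closed W hW fun p hp => hWi ⟨p, hp, rfl⟩)
    (fun J W hW => h.inter J W (fun i => (hW i).1) fun i p hp => (hW i).2 ⟨p, hp, rfl⟩)).1

end Groth.Agent.Slice15
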