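import Groth.Agent.Lib.Slice15.Alg
import Groth.Agent.Lib.Slice15.Bal
import Groth.Agent.Lib.Slice15.Scheme
import Groth.Agent.Lib.GModComod21.Semisimple
import Groth.Agent.Lib.UnipConst20.Basic

/-!
# Luna's étale slice
-/

set_option autoImplicit false
set_option linter.style.haveILetI false
set_option backward.isDefEq.respectTransparency.types false
set_option maxSynthPendingDepth 3
set_option synthInstance.maxHeartbeats 400000
universe u

open CategoryTheory Limits MonoidalCategory CartesianMonoidalCategory MonObj AlgebraicGeometry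
open scoped TensorProduct
open CoactBr (sp pt)
open Groth.Agent.AffAct15 (IsModel exists_pt exists_affModel fn fn_bijective)

noncomputable section

namespace Groth.Agent.Slice15

variable {k : Type u} [Field k]

/-- The monoidal structure of `Spec`. -/
local instance braidedAlgSpecLoc (R : Type u) [CommRing R] : (algSpec (CommRingCat.of R)).Braided :=
  braidedAlgSpec

/-- Localising the ring and its invariants at an invariant is a pushout. -/
theorem isPushout_locVal {A Q : Type u} [CommRing A] [HopfAlgebra k A] [CommRing Q] [Algebra k Q]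
    [HopfRep.Comod k A Q] [GLin.IsCoactAlg k A Q] (w : GLin.invariants k A Q) :
    IsPushout (CommRingCat.ofHom (GLin.invariants k A Q).val.toRingHom)
      (CommRingCat.ofHom (algebraMap (GLin.invariants k A Q) (Localization.Away w)))
      (CommRingCat.ofHom (algebraMap Q (Localization.Away ((GLin.invariants k A Q).val w))))
      (CommRingCat.ofHom (locVal w).toRingHom) := by
  let Qw := Localization.Away ((GLin.invariants k A Q).val w)
  let Rw := Localization.Away w
  letI : Algebra Rw Qw := (locVal w).toRingHom.toAlgebra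
  haveI : IsScalarTower (GLin.invariants k A Q) Rw Qw := IsScalarTower.of_algebraMap_eq fun r => by
    show algebraMap (GLin.invariants k A Q) Qw r = locVal w (algebraMap _ Rw r)
    rw [IsScalarTower.algebraMap_apply (GLin.invariants k A Q) Q Qw]
    exact (locVal_algebraMap w r).symm
  haveI : IsLocalization (Algebra.algebraMapSubmonoid Q (Submonoid.powers w)) Qw := by
    rw [Algebra.algebraMapSubmonoid_powers]
    exact inferInstanceAs (IsLocalization.Away ((GLin.invariants k A Q).val w) Qw)
  haveI : Algebra.IsPushout (GLin.invariants k A Q) Q Rw Qw :=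
    Algebra.isPushout_of_isLocalization (Submonoid.powers w) _ _ _
  exact CommRingCat.isPushout_of_isPushout (GLin.invariants k A Q) Q Rw Qw

theorem exists_etale_slice [IsAlgClosed k] [CharZero k]
    (G X Y : Over (Spec (CommRingCat.of k))) [GrpObj G] (hG : Red.IsReductiveOver k G)
    [IsAffine X.left] [LocallyOfFiniteType X.hom] [IsReduced X.left]
    (a : AlgGrp.Action G X) (π : X ⟶ Y) (hπ : NRQuot.IsGoodQuot a π)
    (x : 𝟙_ (Over (Spec (CommRingCat.of k))) ⟶ X) (hx : IsClosed (Set.range (a.orbitMap x).left.base))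
    (H : Over (Spec (CommRingCat.of k))) [GrpObj H] (i : H ⟶ G) [IsMonHom i]
    (hH : IsPullback i (toUnit H) (a.orbitMap x) x) :
    ∃ (V W Q : Over (Spec (CommRingCat.of k))) (incl : V ⟶ X) (v : 𝟙_ (Over (Spec (CommRingCat.of k))) ⟶ V)
      (aV : AlgGrp.Action H V)
      (aW : AlgGrp.Action G W) (j : G ⊗ V ⟶ W) (ψ : W ⟶ X) (πW : W ⟶ Q) (ψq : Q ⟶ Y),
      IsImmersion incl.left ∧ IsAffine V.left ∧ v ≫ incl = x ∧
      aV.act ≫ incl = (H ◁ incl) ≫ (a.restrict i).act ∧
      GIT.IsCatQuot (ChGrp.twist i aV) j ∧ ChGrp.IsBalProd Scheme.fppfPrecoverage i aV aW j ∧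
      j ≫ ψ = (G ◁ incl) ≫ a.act ∧ AlgGrp.Action.IsEquivariant aW a ψ ∧
      NRQuot.IsGoodQuot aW πW ∧ πW ≫ ψq = ψ ≫ π ∧
      IsOpen (Set.range ψ.left.base) ∧
      π.left.base ⁻¹' (π.left.base '' Set.range ψ.left.base) = Set.range ψ.left.base ∧
      AlgebraicGeometry.Etale ψq.left ∧ IsPullback ψ πW π ψq := by
  classical
  -- the group
  obtain ⟨A, _, _, eG, heG, heGm, hLR⟩ := GModComod21.exists_model_LR hG
  haveI := heG
  haveI := heGm
  haveI := hG.1
  haveI := hG.2.1
  haveI := hG.2.2.1
  haveI : IsIso eG.left := inferInstanceAs (IsIso ((Over.forget _).map eG))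
  have hsm : Smooth (Spec.map (CommRingCat.ofHom (algebraMap k A))) := by
    show Smooth (sp k A).hom
    rw [← Over.w eG]
    infer_instance
  haveI : Algebra.Smooth k A := RingHom.smooth_algebraMap.1 ((HasRingHomProperty.Spec_iff (P := @Smooth)).1 hsm)
  haveI : Algebra.FiniteType k A := Algebra.FiniteType.of_finitePresentation
  let hh : PrimeSpectrum A ≃ₜ G.left := Scheme.homeoOfIso (asIso eG.left)
  haveI : ConnectedSpace (PrimeSpectrum A) := hh.symm.surjective.connectedSpace hh.symm.continuous
  haveI : Nontrivial A := PrimeSpectrum.nonempty_iff_nontrivial.mp inferInstance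
  haveI : IsDomain A := UnipConst20.isDomain_of_connected (k := k) A fun e he => by
    rcases isClopen_iff.mp (PrimeSpectrum.isClopen_iff.mpr ⟨e, he, rfl⟩) with h | h
    · exact Or.inl (he.eq_zero_of_isNilpotent (PrimeSpectrum.basicOpen_eq_bot_iff e |>.mp (SetLike.coe_injective h)))
    · refine Or.inr ?_
      have hu : IsUnit e := by
        by_contra hne
        obtain ⟨m, hm, hem⟩ := exists_max_ideal_of_mem_nonunits hne
        exact (show (⟨m, hm.isPrime⟩ : PrimeSpectrum A) ∈ (PrimeSpectrum.basicOpen e : Set (PrimeSpectrum A)) from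
          h ▸ Set.mem_univ _) hem
      exact hu.mul_left_cancel (he.trans (_root_.mul_one e).symm)
  -- the variety
  obtain ⟨R, _, _, jX, _⟩ := exists_affModel X
  haveI : IsIso jX.left := inferInstanceAs (IsIso ((Over.forget _).map jX))
  haveI : Algebra.FiniteType k R := by
    have h : LocallyOfFiniteType (sp k R).hom := by rw [← Over.w jX]; infer_instance
    exact RingHom.finiteType_algebraMap.1 ((HasRingHomProperty.Spec_iff (P := @LocallyOfFiniteType)).1 h)
  haveI : _root_.IsReduced R := isReduced_of_injective (fn jX) fn_bijective.1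
  obtain ⟨hC, hm, hj⟩ := AffAct15.exists_model eG jX a
  letI := hC
  haveI := hm
  -- the point and its orbit
  haveI := isIso_toUnit (k := k)
  obtain ⟨x₀, hx₀⟩ := exists_pt (toUnit (sp k k) ≫ x ≫ inv jX)
  have hx₀' : pt x₀ ≫ jX = toUnit (sp k k) ≫ x := by rw [hx₀]; simp
  have horb := orbitMap_eq hj x x₀ hx₀'
  have hcl : GLin.IsClosedOrbit k A x₀ := by
    have hs : Function.Surjective (GrpObj.inv ≫ inv eG : G ⟶ sp k A).left.base := by
      haveI : IsIso (GrpObj.inv ≫ inv eG : G ⟶ sp k A).left :=
        inferInstanceAs (IsIso ((Over.forget _).map (GrpObj.inv ≫ inv eG : G ⟶ sp k A)))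
      exact (Scheme.homeoOfIso (asIso (GrpObj.inv ≫ inv eG : G ⟶ sp k A).left)).surjective
    have e : Set.range (PrimeSpectrum.comap (GLin.orbitHom k A x₀).toRingHom) =
        jX.left.base ⁻¹' Set.range (a.orbitMap x).left.base := by
      rw [horb]
      ext P
      constructor
      · rintro ⟨P', hP'⟩
        obtain ⟨g, rfl⟩ := hs P'
        exact ⟨g, congrArg jX.left.base hP'⟩
      · rintro ⟨g, hg⟩
        exact ⟨(GrpObj.inv ≫ inv eG : G ⟶ sp k A).left.base g, jX.left.injective hg⟩
    show IsClosed _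
    rw [e]
    exact hx.preimage jX.left.continuous
  let B := OrbitFlatH28.orb A x₀
  haveI := OrbitFlatH28.faithfullyFlat_orb hcl
  let ρ : R →ₐ[k] B := (GLin.orbitHom k A x₀).rangeRestrict
  have hρs : Function.Surjective ρ := AlgHom.rangeRestrict_surjective _
  haveI : Algebra.FiniteType k B := Algebra.FiniteType.of_surjective ρ hρs
  haveI : IsNoetherianRing B := Algebra.FiniteType.isNoetherianRing k B
  haveI : Algebra.FiniteType B A := Algebra.FiniteType.of_restrictScalars_finiteType k B A
  haveI : Algebra.FinitePresentation B A := Algebra.FinitePresentation.of_finiteType.1 inferInstance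
  let iO : sp k B ⟶ X := pt ρ ≫ jX
  haveI : IsClosedImmersion (pt ρ).left := by
    rw [CoactBr.pt_left]
    exact IsClosedImmersion.spec_of_surjective _ hρs
  haveI : IsClosedImmersion iO.left := by rw [Over.comp_left]; infer_instance
  haveI : Mono iO := (Over.forget _).mono_of_mono_map (inferInstanceAs (Mono iO.left))
  let u : G ⟶ sp k A := GrpObj.inv ≫ inv eG
  haveI : IsIso u.left := inferInstanceAs (IsIso ((Over.forget _).map u))
  let oG : G ⟶ sp k B := u ≫ pt B.val
  have hoG : oG ≫ iO = a.orbitMap x := by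
    rw [horb, show GLin.orbitHom k A x₀ = B.val.comp ρ from rfl, CoactBr.pt_comp]
    simp only [oG, u, iO, Category.assoc]
  haveI : Flat (pt B.val).left := by
    rw [CoactBr.pt_left]
    show Flat (Spec.map (CommRingCat.ofHom (algebraMap B A)))
    exact (HasRingHomProperty.Spec_iff (P := @Flat)).2 (RingHom.flat_algebraMap_iff.2 inferInstance)
  haveI : Surjective (pt B.val).left :=
    ⟨PrimeSpectrum.comap_surjective_of_faithfullyFlat (A := B) (B := A)⟩
  haveI : LocallyOfFinitePresentation (pt B.val).left := by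
    rw [CoactBr.pt_left]
    show LocallyOfFinitePresentation (Spec.map (CommRingCat.ofHom (algebraMap B A)))
    exact (HasRingHomProperty.Spec_iff (P := @LocallyOfFinitePresentation)).2
      (RingHom.finitePresentation_algebraMap.2 inferInstance)
  haveI : Flat oG.left := by rw [Over.comp_left]; infer_instance
  haveI : Surjective oG.left := by rw [Over.comp_left]; infer_instance
  haveI : LocallyOfFinitePresentation oG.left := by rw [Over.comp_left]; infer_instance
  -- the slice algebra
  obtain ⟨Q, _, _, _, _, hCQ, hmQ, πB, π', θ, p₀, g, w, hθ, hπ', hlift, hπB, hp₀π, hp₀θ, hp₀w, hwg, hsurj, het,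
    hpush⟩ := exists_slice hLR x₀ hcl
  letI := hCQ
  haveI := hmQ
  let R₀ := GLin.invariants k A Q
  let S₀ := GLin.invariants k A R
  let Rw := Localization.Away w
  let Qw := Localization.Away (R₀.val w)
  let aR : R₀ →ₐ[k] Rw := IsScalarTower.toAlgHom k R₀ Rw
  let aQ : Q →ₐ[k] Qw := IsScalarTower.toAlgHom k Q Qw
  obtain ⟨aS, haS⟩ := exists_action (eG := eG) (R := Q)
  let pr : sp k Qw ⟶ sp k Q := pt aQ
  let πW : sp k Qw ⟶ sp k Rw := pt (locVal w)
  haveI : IsOpenImmersion pr.left := by
    show IsOpenImmersion (Spec.map (CommRingCat.ofHom (algebraMap Q Qw)))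
    exact IsOpenImmersion.of_isLocalization (R₀.val w)
  have hqQ : AffAct15.IsAffQuot aS (pt R₀.val) := by
    have := AffAct15.isAffQuot_pt_val haS
    rwa [IsIso.inv_id, Category.id_comp] at this
  have hval : R₀.val.comp (AlgHom.id k R₀) = R₀.val := AlgHom.comp_id _
  have sqW : IsPullback pr πW (pt R₀.val) (pt aR) := by
    have hw' : (locVal w).comp aR = aQ.comp R₀.val := AlgHom.ext fun r => locVal_algebraMap w r
    refine IsPullback.of_map (Over.forget _) (by rw [← CoactBr.pt_comp, ← CoactBr.pt_comp, hw']) ?_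
    show IsPullback (pt aQ).left (pt (locVal w)).left (pt R₀.val).left (pt aR).left
    simp only [CoactBr.pt_left]
    exact isPullback_SpecMap_of_isPushout _ _ _ _ (isPushout_locVal w)
  obtain ⟨aW, haW, hiW⟩ := GITQuot.exists_pullback_action hqQ.invt sqW
  haveI : IsAffine (sp k Rw).left := inferInstanceAs (IsAffine (Spec _))
  haveI : IsAffine (sp k Qw).left := inferInstanceAs (IsAffine (Spec _))
  have hgood : NRQuot.IsGoodQuot aW πW :=
    isGoodQuot_of_isAffQuot (eG := eG) hLR (hqQ.baseChange eG hLR sqW haW hiW)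
  -- the two maps to the variety
  let c : sp k Qw ⟶ X := pr ≫ pt π' ≫ jX
  let ψ : sp k Qw ⟶ X := pr ≫ pt θ ≫ jX
  have heqv : ∀ φ : R →ₐ[k] Q, Hoch.IsComodHom A φ.toLinearMap →
      AlgGrp.Action.IsEquivariant aW a (pr ≫ pt φ ≫ jX) := fun φ hφ => by
    show aW.act ≫ _ = _
    rw [reassoc_of% haW, equivariant_pt hj haS φ hφ, ← MonoidalCategory.whiskerLeft_comp_assoc]
  let c' : sp k Qw ⟶ sp k B := pr ≫ pt πB
  have hc' : c' ≫ iO = c := by
    simp only [c', iO, c, Category.assoc]
    rw [← Category.assoc (pt πB), ← CoactBr.pt_comp, hπB]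
  let V : Over (Spec (CommRingCat.of k)) := pullback c x
  let vW : V ⟶ sp k Qw := pullback.fst c x
  have sqV : IsPullback vW (toUnit V) c x := by
    have := IsPullback.of_hasPullback c x
    rwa [toUnit_unique (pullback.snd c x) (toUnit V)] at this
  obtain ⟨aV, haV, hcat, hbal⟩ := balProd_of_orbit a aW c (heqv π' hπ') x i hH vW sqV iO oG hoG c' hc'
  haveI hxci : IsClosedImmersion x.left := by
    haveI : IsClosedImmersion (x.left ≫ X.hom) := by
      rw [Over.w x]
      show IsClosedImmersion (𝟙 (Spec (CommRingCat.of k)))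
      infer_instance
    exact IsClosedImmersion.of_comp x.left X.hom
  haveI : IsClosedImmersion vW.left :=
    MorphismProperty.of_isPullback (P := @IsClosedImmersion) (sqV.map (Over.forget _)).flip hxci
  haveI hVaff : IsAffine V.left := isAffine_of_isAffineHom vW.left
  -- the immersion
  let L : sp k Q ⟶ X ⊗ X := lift (pt π' ≫ jX) (pt θ ≫ jX)
  haveI : IsClosedImmersion L.left := by
    haveI : IsClosedImmersion (pt (Algebra.TensorProduct.lift π' θ fun _ _ => .all _ _)).left := by
      rw [CoactBr.pt_left]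
      exact IsClosedImmersion.spec_of_surjective _ hlift
    let mI := Functor.Monoidal.μIso (algSpec (CommRingCat.of k)) (Opposite.op (CommAlgCat.of k R))
      (Opposite.op (CommAlgCat.of k R))
    have e' : lift (pt π') (pt θ) ≫ mI.hom = pt (Algebra.TensorProduct.lift π' θ fun _ _ => .all _ _) :=
      CoactBr.lift_pt_pt π' θ
    have e : L = (lift (pt π') (pt θ) ≫ mI.hom) ≫ (mI.inv ≫ (jX ⊗ₘ jX)) := by
      erw [Category.assoc, Iso.hom_inv_id_assoc, lift_map]
    rw [e, e', Over.comp_left]
    haveI : IsIso (mI.inv ≫ (jX ⊗ₘ jX)).left := by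
      haveI : IsIso (mI.inv ≫ (jX ⊗ₘ jX)) := by
        haveI : IsIso mI.inv := mI.isIso_inv
        exact IsIso.comp_isIso' inferInstance ((asIso jX) ⊗ᵢ (asIso jX)).isIso_hom
      exact inferInstanceAs (IsIso ((Over.forget _).map (mI.inv ≫ (jX ⊗ₘ jX))))
    exact MorphismProperty.comp_mem @IsClosedImmersion _ _ ‹_› inferInstance
  let incl : V ⟶ X := vW ≫ ψ
  have hincl : IsImmersion incl.left := by
    let sec : X ⟶ X ⊗ X := lift (toUnit X ≫ x) (𝟙 X)
    have e : incl ≫ sec = vW ≫ pr ≫ L := by
      ext1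
      · simp only [sec, L, incl, Category.assoc, lift_fst]
        rw [show vW ≫ pr ≫ pt π' ≫ jX = toUnit V ≫ x from sqV.w]
        simp only [← Category.assoc]
        rw [toUnit_unique (((vW ≫ ψ) ≫ toUnit X)) (toUnit V)]
      · simp [sec, L, incl, ψ]
    have : IsImmersion (incl.left ≫ sec.left) := by
      rw [← Over.comp_left, e, Over.comp_left, Over.comp_left]
      infer_instance
    exact IsImmersion.of_comp incl.left sec.left
  -- the point of the slice
  have hu : ∀ y : Submonoid.powers (R₀.val w), IsUnit (p₀ y) := by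
    rintro ⟨_, n, rfl⟩
    show IsUnit (p₀ ((R₀.val w) ^ n))
    rw [map_pow]
    exact (isUnit_iff_ne_zero.2 hp₀w).pow n
  let pw : Qw →ₐ[k] k := IsLocalization.liftAlgHom hu
  have hpw : pw.comp aQ = p₀ := AlgHom.ext fun q => IsLocalization.lift_eq hu q
  let yW : 𝟙_ (Over (Spec (CommRingCat.of k))) ⟶ sp k Qw := inv (toUnit (sp k k)) ≫ pt pw
  have hy : ∀ φ : R →ₐ[k] Q, p₀.comp φ = x₀ → yW ≫ pr ≫ pt φ ≫ jX = x := fun φ hφ => by
    simp only [yW, pr, Category.assoc]
    rw [← Category.assoc (pt aQ), ← CoactBr.pt_comp, ← Category.assoc (pt pw), ← CoactBr.pt_comp,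
      show pw.comp (aQ.comp φ) = x₀ by rw [← AlgHom.comp_assoc, hpw, hφ], hx₀', IsIso.inv_hom_id_assoc]
  let v := sqV.lift yW (toUnit _) (by
    rw [hy π' hp₀π, toUnit_unique (toUnit (𝟙_ (Over (Spec (CommRingCat.of k))))) (𝟙 _), Category.id_comp])
  have hv : v ≫ incl = x := by
    simp only [incl, v, ← Category.assoc, IsPullback.lift_fst]
    exact hy θ hp₀θ
  have hψe : aW.act ≫ ψ = (G ◁ ψ) ≫ a.act := heqv θ hθ
  -- the quotients
  let qX : X ⟶ sp k S₀ := inv jX ≫ pt S₀.val
  have hqX : GIT.IsCatQuot a qX :=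
    isCatQuot_of_isGoodQuot (isGoodQuot_of_isAffQuot (eG := eG) hLR (AffAct15.isAffQuot_pt_val hj))
  obtain ⟨χ, hχi, hχ⟩ := AffAct15.catQuot_iso (isCatQuot_of_isGoodQuot hπ) hqX
  haveI := hχi
  haveI : IsIso χ.left := inferInstanceAs (IsIso ((Over.forget _).map χ))
  let uR : S₀ →ₐ[k] Rw := aR.comp (res θ hθ)
  let ψq : sp k Rw ⟶ Y := pt uR ≫ χ
  have sq0 : IsPullback (pt (aQ.comp θ)) πW (pt S₀.val) (pt uR) := by
    refine IsPullback.of_map (Over.forget _) ?_ ?_
    · rw [← CoactBr.pt_comp, ← CoactBr.pt_comp]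
      congr 1
      exact AlgHom.coe_ringHom_injective (congrArg CommRingCat.Hom.hom hpush.w)
    · show IsPullback (pt (aQ.comp θ)).left (pt (locVal w)).left (pt S₀.val).left (pt uR).left
      simp only [CoactBr.pt_left]
      exact isPullback_SpecMap_of_isPushout _ _ _ _ hpush
  have sq : IsPullback ψ πW π ψq :=
    sq0.of_iso (Iso.refl _) (asIso jX) (Iso.refl _) (asIso χ) (by simp [ψ, pr, CoactBr.pt_comp])
      (by simp) (by simp [qX, ← hχ]) (by simp [ψq])
  haveI : Etale ψq.left := by
    haveI : Etale (pt uR).left := by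
      rw [CoactBr.pt_left]
      exact (HasRingHomProperty.Spec_iff (P := @Etale)).2 het
    rw [Over.comp_left]
    infer_instance
  -- the image
  have hr : Set.range ψ.left.base = qX.left.base ⁻¹' (PrimeSpectrum.basicOpen g : Set (PrimeSpectrum S₀)) := by
    have hψ : ψ.left = (pt aQ).left ≫ (pt θ).left ≫ jX.left := rfl
    have hrQ : Set.range (PrimeSpectrum.comap (algebraMap Q Qw)) = PrimeSpectrum.basicOpen (R₀.val w) :=
      PrimeSpectrum.localization_away_comap_range Qw (R₀.val w)
    ext y
    obtain ⟨P, rfl⟩ := (Scheme.homeoOfIso (asIso jX.left)).surjective y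
    have e1 : qX.left.base (jX.left.base P) ∈ (PrimeSpectrum.basicOpen g : Set (PrimeSpectrum S₀)) ↔
        (g : R) ∉ (P : PrimeSpectrum R).asIdeal := by
      have : qX.left.base (jX.left.base P) = (pt S₀.val).left.base P := by
        show (jX ≫ qX).left.base P = _
        simp [qX]
      rw [this]
      exact Iff.rfl
    refine Iff.trans ?_ e1.symm
    constructor
    · rintro ⟨z, hz⟩
      have hz' : PrimeSpectrum.comap θ.toRingHom (PrimeSpectrum.comap (algebraMap Q Qw) z) = P := by
        refine jX.left.injective ?_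
        rw [← show (asIso jX.left).hom.base P = jX.left.base P from rfl]
        exact hz
      rw [← hz']
      exact hwg _ (PrimeSpectrum.comap (algebraMap Q Qw) z).isPrime (hrQ.le ⟨z, rfl⟩)
    · intro hgP
      obtain ⟨P', hP', hwP', hP⟩ := hsurj _ (P : PrimeSpectrum R).isPrime hgP
      obtain ⟨z, hz⟩ := hrQ.ge (show (⟨P', hP'⟩ : PrimeSpectrum Q) ∈ _ from hwP')
      refine ⟨z, congrArg jX.left.base ?_⟩
      show PrimeSpectrum.comap θ.toRingHom (PrimeSpectrum.comap (algebraMap Q Qw) z) = P
      rw [hz]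
      exact PrimeSpectrum.ext hP
  refine ⟨V, sp k Qw, sp k Rw, incl, v, aV, aW, _, ψ, πW, ψq, hincl, hVaff, hv, ?_, hcat, hbal, ?_, hψe, hgood,
    sq.w.symm, ?_, ?_, inferInstance, sq⟩
  · rw [reassoc_of% haV, AlgGrp.Action.restrict_act, AlgGrp.Action.restrict_act, Category.assoc, hψe,
      ← whisker_exchange_assoc i ψ, ← MonoidalCategory.whiskerLeft_comp_assoc]
  · rw [Category.assoc, hψe, ← MonoidalCategory.whiskerLeft_comp_assoc]
  · rw [hr]
    exact (PrimeSpectrum.basicOpen g).2.preimage qX.left.continuous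
  · refine Set.Subset.antisymm ?_ (Set.subset_preimage_image _ _)
    rintro y ⟨z, hz, hzy⟩
    rw [hr] at hz ⊢
    have e : qX.left.base z = qX.left.base y := by
      refine χ.left.injective ?_
      show (qX ≫ χ).left.base z = (qX ≫ χ).left.base y
      rw [hχ]
      exact hzy
    rw [Set.mem_preimage, ← e]
    exact hz

end Groth.Agent.Slice15
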